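/-
Bender-Glauberman, section 12.
-/
import Cfsg.Agent.BG.S12e
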