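/-
Bender–Glauberman, section 15: the subgroup `M_F` (umbrella module).
`S15a`: 15.1; `S15b`: 15.2–15.6; `S15c`: 15.7–15.9.
-/
import Cfsg.Agent.BG.S15c
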